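import Groth.Agent.L22.SymHilb.Pow
import Groth.Agent.L22.SymQuot.Box
import Mathlib.AlgebraicGeometry.ResidueField

/-!
The big diagonal of a fibre power.
-/

set_option autoImplicit false
set_option linter.style.haveILetI false
set_option backward.isDefEq.respectTransparency false
set_option backward.isDefEq.respectTransparency.types false

universe u

open CategoryTheory CategoryTheory.Limits AlgebraicGeometry
open Groth.L22.SymHilb (TT pj pj_over)

noncomputable section

namespace Groth.L22.SymSing

/-- A morphism from a reduced scheme with image in a closed immersion factors through it. -/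
theorem exists_lift {T Z X : Scheme.{u}} [IsReduced T] (ι : Z ⟶ X) [IsClosedImmersion ι]
    (m : T ⟶ X) (h : Set.range m ⊆ Set.range ι) : ∃ l : T ⟶ Z, l ≫ ι = m := by
  haveI : Surjective (pullback.snd ι m) := ⟨fun t => by
    obtain ⟨z, hz⟩ := h ⟨t, rfl⟩
    obtain ⟨w, -, hw⟩ := Scheme.Pullback.exists_preimage_pullback (f := ι) (g := m) z t hz
    exact ⟨w, hw⟩⟩
  haveI : IsIso (pullback.snd ι m) := isIso_of_isClosedImmersion_of_surjective _
  exact ⟨inv (pullback.snd ι m) ≫ pullback.fst ι m, by
    rw [Category.assoc, pullback.condition, IsIso.inv_hom_id_assoc]⟩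

variable {X S : Scheme.{u}} (f : X ⟶ S) [IsSeparated f]

/-- The pair of projections. -/
def pairMap (n : ℕ) (i j : Fin n) : SymProd.fibPow f n ⟶ pullback f f :=
  pullback.lift (pj f n i) (pj f n j) ((pj_over f n i).trans (pj_over f n j).symm)

/-- The locus where the components `i` and `j` agree. -/
def badAt (n : ℕ) (i j : Fin n) : Set ↥(SymProd.fibPow f n) :=
  Set.range (pullback.fst (pairMap f n i j) (pullback.diagonal f))

theorem isClosed_badAt (n : ℕ) (i j : Fin n) : IsClosed (badAt f n i j) := by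
  exact (pullback.fst (pairMap f n i j) (pullback.diagonal f)).isClosedEmbedding.isClosed_range

/-- Membership in the diagonal locus may be checked on any field-valued point. -/
theorem mem_badAt_iff {n : ℕ} {i j : Fin n} {K : Type u} [Field K]
    (ξ : Spec (CommRingCat.of K) ⟶ SymProd.fibPow f n) (t : ↥(Spec (CommRingCat.of K))) :
    ξ t ∈ badAt f n i j ↔ ξ ≫ pj f n i = ξ ≫ pj f n j := by
  constructor
  · intro h
    haveI : IsReduced (Spec (CommRingCat.of K)) := inferInstance
    obtain ⟨l, hl⟩ := Groth.L22.SymSing.exists_lift (pullback.fst (pairMap f n i j) (pullback.diagonal f)) ξ (by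
      rintro _ ⟨s, rfl⟩
      rwa [Subsingleton.elim (α := PrimeSpectrum K) s t])
    have h1 : ξ ≫ pairMap f n i j = (l ≫ pullback.snd _ _) ≫ pullback.diagonal f := by
      rw [← hl, Category.assoc, pullback.condition, Category.assoc]
    have e1 := congrArg (· ≫ pullback.fst f f) h1
    have e2 := congrArg (· ≫ pullback.snd f f) h1
    simp only [Category.assoc, pairMap, pullback.lift_fst, pullback.lift_snd, pullback.diagonal_fst,
      pullback.diagonal_snd, Category.comp_id] at e1 e2
    exact e1.trans e2.symm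
  · intro h
    refine ⟨(pullback.lift ξ (ξ ≫ pj f n i) ?_ : Spec (CommRingCat.of K) ⟶ pullback (pairMap f n i j) (pullback.diagonal f)) t, ?_⟩
    · apply pullback.hom_ext
      · simp [pairMap]
      · simp only [Category.assoc, pairMap, pullback.lift_snd, pullback.diagonal_snd, Category.comp_id]
        exact h.symm
    · rw [← Scheme.Hom.comp_apply, pullback.lift_fst]

/-- The big diagonal. -/
def bad (n : ℕ) : Set ↥(SymProd.fibPow f n) :=
  ⋃ p : {p : Fin n × Fin n // p.1 ≠ p.2}, badAt f n p.1.1 p.1.2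

theorem isClosed_bad (n : ℕ) : IsClosed (bad f n) :=
  isClosed_iUnion_of_finite fun _ => isClosed_badAt f n _ _

theorem notMem_bad_of_injective {n : ℕ} {x : ↥(SymProd.fibPow f n)}
    (h : Function.Injective fun i : Fin n => (pj f n i).base x) : x ∉ bad f n := by
  intro hx
  obtain ⟨⟨⟨i, j⟩, hij⟩, hx⟩ := Set.mem_iUnion.1 hx
  obtain ⟨s⟩ : Nonempty ↥(Spec ((SymProd.fibPow f n).residueField x)) := inferInstance
  have hs : (SymProd.fibPow f n).fromSpecResidueField x s = x := Scheme.fromSpecResidueField_apply _ _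
  rw [← hs] at hx
  have e := congrArg (fun m => m s) ((mem_badAt_iff f (n := n) (i := i) (j := j) ((SymProd.fibPow f n).fromSpecResidueField x) s).1 hx)
  simp only [Scheme.Hom.comp_apply] at e
  exact hij (h (((congrArg (pj f n i) hs).symm.trans e).trans (congrArg (pj f n j) hs)))

theorem permHom_mem_bad {n : ℕ} (σ : Equiv.Perm (Fin n)) {x : ↥(SymProd.fibPow f n)} (hx : x ∈ bad f n) :
    SymProd.permHom f n σ x ∈ bad f n := by
  obtain ⟨⟨⟨i, j⟩, hij⟩, hx⟩ := Set.mem_iUnion.1 hx
  obtain ⟨s⟩ : Nonempty ↥(Spec ((SymProd.fibPow f n).residueField x)) := inferInstance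
  have hs : (SymProd.fibPow f n).fromSpecResidueField x s = x := Scheme.fromSpecResidueField_apply _ _
  rw [← hs] at hx ⊢
  rw [← Scheme.Hom.comp_apply]
  refine Set.mem_iUnion.2 ⟨⟨(σ i, σ j), fun e => hij (σ.injective e)⟩, ?_⟩
  refine (mem_badAt_iff f (i := σ i) (j := σ j) ((SymProd.fibPow f n).fromSpecResidueField x ≫ SymProd.permHom f n σ) s).2 ?_
  rw [Category.assoc, Category.assoc]
  show _ ≫ SymProd.permHom f n σ ≫ WidePullback.π (fun _ : Fin n => f) (σ i) =
    _ ≫ SymProd.permHom f n σ ≫ WidePullback.π (fun _ : Fin n => f) (σ j)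
  rw [SymProd.permHom_π, SymProd.permHom_π, Equiv.symm_apply_apply, Equiv.symm_apply_apply]
  exact (mem_badAt_iff f (i := i) (j := j) ((SymProd.fibPow f n).fromSpecResidueField x) s).1 hx

theorem eq_one_of_fixed {n : ℕ} {K : Type u} [Field K] (ξ : Spec (CommRingCat.of K) ⟶ SymProd.fibPow f n)
    (t : ↥(Spec (CommRingCat.of K))) (ht : ξ t ∉ bad f n) (σ : Equiv.Perm (Fin n))
    (h : ξ ≫ SymProd.permHom f n σ = ξ) : σ = 1 := by
  refine Equiv.ext fun i => ?_
  by_contra hne
  refine ht (Set.mem_iUnion.2 ⟨⟨(i, σ i), fun e => hne e.symm⟩, (mem_badAt_iff f ξ t).2 ?_⟩)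
  have := congrArg (· ≫ WidePullback.π (fun _ : Fin n => f) (σ i)) h
  simp only [Category.assoc, SymProd.permHom_π, Equiv.symm_apply_apply] at this
  exact this

end Groth.L22.SymSing
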