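import Groth.Agent.L16.SmoothSection.Algebra
import Groth.Agent.L21.Smooth.EtaleRegular
import Groth.Agent.L22.AffineDim
import Groth.Agent.L22.SchemeDim
import Groth.Prelude.Def_RegImm
import Mathlib.AlgebraicGeometry.Morphisms.Smooth
import Mathlib.AlgebraicGeometry.IdealSheaf.Subscheme
import Mathlib.AlgebraicGeometry.Morphisms.ClosedImmersion

/-!
Sections of smooth morphisms and the dimension of smooth varieties, with a small import closure.
-/

set_option autoImplicit false
set_option linter.style.haveILetI false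

universe u

open CategoryTheory CategoryTheory.Limits AlgebraicGeometry TopologicalSpace
open Groth.L16.SmoothSection

namespace Groth.L22.SymSing

/-- A closed section of a morphism smooth of relative dimension `n` is regular of codimension `n`. -/
theorem isRegularImmersionOfCodim_section {X S : Scheme.{u}} (f : X ⟶ S) (n : ℕ) [SmoothOfRelativeDimension n f]
    (σ : S ⟶ X) (hσ : σ ≫ f = 𝟙 S) [IsClosedImmersion σ] :
    RegImm.IsRegularImmersionOfCodim RegImm.Kind.regular n σ := by
  refine ⟨inferInstance, fun z => ?_⟩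
  have hfσ : ∀ t, f (σ t) = t := fun t => by
    rw [← Scheme.Hom.comp_apply, hσ]; rfl
  obtain ⟨U, hU, W, hW, hzW, e, hstd⟩ :=
    SmoothOfRelativeDimension.exists_isStandardSmoothOfRelativeDimension (n := n) (f := f) (σ z)
  have hzU : z ∈ U := by simpa [hfσ] using e hzW
  obtain ⟨r, hr, hzr⟩ := hU.exists_basicOpen_le (V := σ ⁻¹ᵁ W) (x := ⟨z, hzW⟩) hzU
  let φ₀ := f.appLE U W e
  let W' := X.basicOpen (φ₀ r)
  have hW' : IsAffineOpen W' := hW.basicOpen _
  have hU' : IsAffineOpen (S.basicOpen r) := hU.basicOpen r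
  have hW'eq : W' = W ⊓ f ⁻¹ᵁ S.basicOpen r := Scheme.basicOpen_appLE f W U e r
  have e₁ : W' ≤ f ⁻¹ᵁ S.basicOpen r := hW'eq ▸ inf_le_right
  have hpre : σ ⁻¹ᵁ W' = S.basicOpen r := by
    rw [hW'eq]
    ext t
    refine ⟨fun h => ?_, fun h => ⟨hr h, ?_⟩⟩
    · have h2 : f (σ t) ∈ S.basicOpen r := h.2
      rwa [hfσ] at h2
    · show f (σ t) ∈ S.basicOpen r
      rw [hfσ]; exact h
  let φ := f.appLE (S.basicOpen r) W' e₁
  have hφ : φ.hom.IsStandardSmoothOfRelativeDimension n := by
    letI := hU.isLocalization_basicOpen r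
    letI := hW.isLocalization_basicOpen (φ₀ r)
    have h := RingHom.LocalizationPreserves.away (RingHom.isStandardSmoothOfRelativeDimension_localizationPreserves n)
      φ₀.hom r
      Γ(S, S.basicOpen r) Γ(X, W') hstd
    have e' : φ = CommRingCat.ofHom
        (IsLocalization.Away.map Γ(S, S.basicOpen r) Γ(X, W') φ₀.hom r) :=
      IsAffineOpen.appLE_eq_away_map f hU hW e r
    rw [e']
    exact h
  let q := σ.appLE W' (S.basicOpen r) hpre.ge
  have hq : q.hom.comp φ.hom = RingHom.id _ := by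
    rw [← CommRingCat.hom_comp, Scheme.Hom.appLE_comp_appLE]
    have : ∀ (g : S ⟶ S) (e'' : S.basicOpen r ≤ g ⁻¹ᵁ S.basicOpen r), g = 𝟙 S →
        (g.appLE (S.basicOpen r) (S.basicOpen r) e'').hom = RingHom.id _ := by
      rintro g e'' rfl
      rw [Scheme.Hom.appLE, Scheme.Hom.id_app]
      exact congrArg CommRingCat.Hom.hom ((Category.id_comp _).trans (S.presheaf.map_id _))
    exact this _ _ hσ
  obtain ⟨g, hg, het⟩ := RingHom.IsStandardSmoothOfRelativeDimension.exists_etale_mvPolynomial hφ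
  obtain ⟨f₀, hf₀, H⟩ := exists_regular_sequence_of_etale φ.hom q.hom hq g hg het
  let W'' := X.basicOpen f₀
  have hW'' : IsAffineOpen W'' := hW'.basicOpen _
  haveI := hW'.isLocalization_basicOpen f₀
  obtain ⟨rs, hlen, hrs, hmap⟩ := H Γ(X, W'')
  have hzW'' : σ z ∈ W'' := by
    have h1 : S.basicOpen (q f₀) = S.basicOpen r ⊓ σ ⁻¹ᵁ W'' := Scheme.basicOpen_appLE σ _ W' hpre.ge f₀
    rw [show q f₀ = 1 from hf₀, Scheme.basicOpen_of_isUnit _ isUnit_one] at h1
    exact (h1.le hzr).2
  have hker₀ : σ.ker.ideal ⟨W', hW'⟩ = RingHom.ker q.hom := by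
    rw [Scheme.Hom.ker_apply]
    have : q = σ.app W' ≫ S.presheaf.map (eqToHom hpre.symm).op := by
      simp [q, Scheme.Hom.appLE]; rfl
    rw [this, CommRingCat.hom_comp]
    exact (RingHom.ker_comp_of_injective _
      ((ConcreteCategory.bijective_of_isIso (S.presheaf.map (eqToHom hpre.symm).op)).1)).symm
  have hker : σ.ker.ideal ⟨W'', hW''⟩ = Ideal.ofList rs := by
    rw [← hmap, ← hker₀]
    exact (σ.ker.map_ideal_basicOpen ⟨W', hW'⟩ f₀).symm
  refine ⟨⟨W'', hW''⟩, hzW'', inferInstance, rs, hlen, ⟨hrs, fun htop => ?_⟩,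
    (Scheme.Hom.ker_apply σ ⟨W'', hW''⟩).symm.trans hker⟩
  have htop' : σ.ker.ideal ⟨W'', hW''⟩ = ⊤ := by
    rw [hker]
    exact (htop.trans (by simp)).symm
  have hsupp : σ z ∈ σ.ker.support := σ.range_subset_ker_support ⟨z, rfl⟩
  rw [Scheme.IdealSheafData.mem_support_iff_of_mem (U := ⟨W'', hW''⟩) hzW'', htop'] at hsupp
  rw [Scheme.mem_zeroLocus_iff] at hsupp
  exact hsupp 1 trivial (by simp [Scheme.basicOpen_of_isUnit _ isUnit_one, hzW''])


set_option backward.isDefEq.respectTransparency false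

theorem relDim_eq (k A : Type u) [Field k] [CommRing A] [IsDomain A] [Algebra k A] (n d : ℕ)
    [Algebra.IsStandardSmoothOfRelativeDimension n k A] (hA : ringKrullDim A = d) : n = d := by
  haveI : Algebra.IsStandardSmooth k A := Algebra.IsStandardSmoothOfRelativeDimension.isStandardSmooth n
  obtain ⟨q, hq⟩ := Ideal.exists_maximal A
  haveI := hq
  obtain ⟨g, hg⟩ := Algebra.IsStandardSmoothOfRelativeDimension.exists_etale_mvPolynomial n k A
  letI := g.toRingHom.toAlgebra
  haveI : Algebra.Etale (MvPolynomial (Fin n) k) A := hg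
  haveI : (q.under (MvPolynomial (Fin n) k)).IsMaximal := by
    letI : Field (A ⧸ q) := Ideal.Quotient.field q
    haveI : Algebra.FiniteType (MvPolynomial (Fin n) k) (A ⧸ q) :=
      Algebra.FiniteType.of_surjective (Ideal.Quotient.mkₐ (MvPolynomial (Fin n) k) q) Ideal.Quotient.mk_surjective
    haveI : Module.Finite (MvPolynomial (Fin n) k) (A ⧸ q) := finite_of_finite_type_of_isJacobsonRing _ _
    have hm := Ideal.isMaximal_comap_of_isIntegral_of_isMaximal (R := MvPolynomial (Fin n) k) (⊥ : Ideal (A ⧸ q))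
    rw [IsScalarTower.algebraMap_eq (MvPolynomial (Fin n) k) A (A ⧸ q), ← Ideal.comap_comap,
      ← RingHom.ker_eq_comap_bot, Ideal.Quotient.algebraMap_eq, Ideal.mk_ker] at hm
    exact hm
  have h1 := (Groth.L21.Smooth.regular_localization_of_etale (MvPolynomial (Fin n) k) A q).2
  rw [IsLocalization.AtPrime.ringKrullDim_eq_height q, IsLocalization.AtPrime.ringKrullDim_eq_height
    (q.under (MvPolynomial (Fin n) k)), Groth.L22.AffineDim.height_of_isMaximal k A q,
    Groth.L22.AffineDim.height_of_isMaximal k (MvPolynomial (Fin n) k),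
    MvPolynomial.ringKrullDim_of_isNoetherianRing, ringKrullDim_eq_zero_of_field, zero_add, hA] at h1
  simp only [Nat.card_eq_fintype_card, Fintype.card_fin] at h1
  exact_mod_cast h1.symm

variable {k : Type u} [Field k] {X : Scheme.{u}} (p : X ⟶ Spec (CommRingCat.of k))

include p in
theorem smoothOfRelativeDimension_dim [IsIntegral X] [Smooth p] (d : ℕ) (hd : topologicalKrullDim X = d) :
    SmoothOfRelativeDimension d p := by
  letI : X.Over (Spec (CommRingCat.of k)) := ⟨p⟩
  haveI : LocallyOfFiniteType (X ↘ Spec (CommRingCat.of k)) := (inferInstance : LocallyOfFiniteType p)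
  obtain ⟨m, hm, -, hmU⟩ := Groth.L22.SchemeDim.exists_dim_eq_trdeg k X
  refine ⟨fun x => ?_⟩
  obtain ⟨V, hV, W, hW, hxW, e, hsm⟩ := Smooth.exists_isStandardSmooth p x
  obtain rfl : V = ⊤ := by
    ext y
    simp only [Opens.coe_top, Set.mem_univ, iff_true]
    obtain rfl : y = p x := Subsingleton.elim (α := PrimeSpectrum k) _ _
    exact e hxW
  refine ⟨⊤, hV, W, hW, hxW, e, ?_⟩
  let α := (p.appLE ⊤ W e).hom.comp (Scheme.ΓSpecIso (CommRingCat.of k)).inv.hom
  have hα : α.IsStandardSmooth := RingHom.isStandardSmooth_respectsIso.2 _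
    (Scheme.ΓSpecIso (CommRingCat.of k)).symm.commRingCatIsoToRingEquiv hsm
  letI : Algebra k Γ(X, W) := α.toAlgebra
  haveI : Algebra.IsStandardSmooth k Γ(X, W) := hα
  haveI : Nonempty W := ⟨⟨x, hxW⟩⟩
  obtain ⟨_, _, _, _, ⟨S⟩⟩ := Algebra.IsStandardSmooth.out (R := k) (S := Γ(X, W))
  haveI : Algebra.IsStandardSmoothOfRelativeDimension S.dimension k Γ(X, W) := ⟨_, _, _, inferInstance, S, rfl⟩
  have hdim : ringKrullDim Γ(X, W) = d := by
    rw [← Groth.L22.SchemeDim.topologicalKrullDim_affineOpen hW]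
    exact (hmU W ⟨x, hxW⟩).trans (hm.symm.trans hd)
  have h1 := relDim_eq k Γ(X, W) S.dimension d hdim
  have h2 : α.IsStandardSmoothOfRelativeDimension d := h1 ▸ (inferInstance :
    Algebra.IsStandardSmoothOfRelativeDimension S.dimension k Γ(X, W))
  have h3 := (RingHom.isStandardSmoothOfRelativeDimension_respectsIso (n := d)).2 α
    (Scheme.ΓSpecIso (CommRingCat.of k)).commRingCatIsoToRingEquiv h2
  have h4 : α.comp (Scheme.ΓSpecIso (CommRingCat.of k)).commRingCatIsoToRingEquiv.toRingHom =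
      (p.appLE ⊤ W e).hom := by
    ext c
    exact congrArg (p.appLE ⊤ W e).hom
      ((Scheme.ΓSpecIso (CommRingCat.of k)).commRingCatIsoToRingEquiv.symm_apply_apply c)
  rwa [h4] at h3

end Groth.L22.SymSing
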