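import Groth.Agent.L22.SymSing.Bad
import Groth.Agent.L22.SymSing.Slim
import Mathlib.RingTheory.KrullDimension.Regular

/-!
The big diagonal has codimension at least the relative dimension.
-/

set_option autoImplicit false
set_option linter.style.haveILetI false
set_option backward.isDefEq.respectTransparency false
set_option backward.isDefEq.respectTransparency.types false

universe u

open CategoryTheory CategoryTheory.Limits AlgebraicGeometry
open Groth.L22.SymHilb (TT pj pj_over drop isPullback_drop drop_pj)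

noncomputable section

namespace Groth.L22.SymSing

/-- Points on a regular immersion of codimension `d` have local rings of dimension at least `d`. -/
theorem le_dim_of_regularImmersion {Z P : Scheme.{u}} [IsLocallyNoetherian P] (σ : Z ⟶ P) (d : ℕ)
    (h : RegImm.IsRegularImmersionOfCodim RegImm.Kind.regular d σ) (z : Z) :
    (d : WithBot ℕ∞) ≤ ringKrullDim (P.presheaf.stalk (σ z)) := by
  obtain ⟨-, hloc⟩ := h
  obtain ⟨U, hU, -, rs, hlen, hreg, hker⟩ := hloc z
  letI := P.presheaf.algebra_section_stalk ⟨σ z, hU⟩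
  haveI := U.2.isLocalization_stalk ⟨σ z, hU⟩
  have hmem : ∀ r ∈ rs, r ∈ (U.2.primeIdealOf ⟨σ z, hU⟩).asIdeal := by
    intro r hr
    by_contra hn
    have hu : IsUnit (algebraMap Γ(P, U.1) (P.presheaf.stalk (σ z)) r) :=
      IsLocalization.map_units _ (⟨r, hn⟩ : (U.2.primeIdealOf ⟨σ z, hU⟩).asIdeal.primeCompl)
    have h2 := hu.map (σ.stalkMap z).hom
    have h3 : (σ.stalkMap z).hom (algebraMap Γ(P, U.1) (P.presheaf.stalk (σ z)) r) =
        Z.presheaf.germ (σ ⁻¹ᵁ U.1) z hU ((σ.app U.1).hom r) :=
      σ.germ_stalkMap_apply U.1 z hU r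
    have h4 : (σ.app U.1).hom r = 0 := by
      rw [← RingHom.mem_ker, hker]
      exact Ideal.subset_span hr
    rw [h3, h4, map_zero] at h2
    exact not_isUnit_zero h2
  haveI : IsNoetherianRing Γ(P, U.1) := IsLocallyNoetherian.component_noetherian U
  haveI : IsNoetherianRing (P.presheaf.stalk (σ z)) :=
    IsLocalization.isNoetherianRing (U.2.primeIdealOf ⟨σ z, hU⟩).asIdeal.primeCompl _ inferInstance
  have hreg2 := RingTheory.Sequence.IsWeaklyRegular.isRegular_of_isLocalization_of_mem
    (U.2.primeIdealOf ⟨σ z, hU⟩).asIdeal (S := P.presheaf.stalk (σ z)) hreg.toIsWeaklyRegular hmem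
  have h5 := ringKrullDim_add_length_eq_ringKrullDim_of_isRegular _ hreg2
  rw [List.length_map, hlen] at h5
  rw [← h5]
  refine le_add_of_nonneg_left ?_
  haveI : Nontrivial (P.presheaf.stalk (σ z) ⧸ Ideal.ofList (rs.map (algebraMap Γ(P, U.1) (P.presheaf.stalk (σ z))))) :=
    Ideal.Quotient.nontrivial_iff.2 fun e => hreg2.2 (by rw [e]; simp)
  exact ringKrullDim_nonneg_of_nontrivial

variable {X S : Scheme.{u}} (f : X ⟶ S) [IsSeparated f]

/-- The big diagonal has codimension at least the relative dimension. -/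
theorem le_dim_of_mem_bad (d : ℕ) [SmoothOfRelativeDimension d f] {n : ℕ} [IsLocallyNoetherian (SymProd.fibPow f n)]
    {x : ↥(SymProd.fibPow f n)} (hx : x ∈ bad f n) :
    (d : WithBot ℕ∞) ≤ ringKrullDim ((SymProd.fibPow f n).presheaf.stalk x) := by
  obtain ⟨⟨⟨i, j⟩, hij⟩, hx⟩ := Set.mem_iUnion.1 hx
  obtain _ | m := n
  · exact i.elim0
  obtain ⟨k, hk⟩ := Fin.exists_succAbove_eq (Ne.symm hij)
  obtain ⟨s⟩ : Nonempty ↥(Spec ((SymProd.fibPow f (m + 1)).residueField x)) := inferInstance
  let ξ := (SymProd.fibPow f (m + 1)).fromSpecResidueField x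
  have hs : ξ s = x := Scheme.fromSpecResidueField_apply _ _
  rw [← hs] at hx
  have heq := (mem_badAt_iff f (i := i) (j := j) ξ s).1 hx
  let e : SymProd.fibPow f (m + 1) ⟶ PicF.XT f (TT f m) := ((isPullback_drop f i).flip.isoPullback).hom
  have he : ξ ≫ e = (ξ ≫ (drop f i).left) ≫ Groth.L02.Hilb.secMor f (TT f m) (pj f m k) (pj_over f m k) := by
    apply pullback.hom_ext
    · simp only [Category.assoc, e, IsPullback.isoPullback_hom_fst, Groth.L02.Hilb.secMor_fst, drop_pj, hk]
      exact heq
    · simp only [Category.assoc, e, IsPullback.isoPullback_hom_snd]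
      rw [show Groth.L02.Hilb.secMor f (TT f m) (pj f m k) (pj_over f m k) ≫ pullback.snd _ _ = 𝟙 _ from
        Groth.L02.Hilb.secMor_proj f (TT f m) _ _, Category.comp_id]
  haveI : SmoothOfRelativeDimension d (PicF.XTproj f (TT f m)) :=
    (smoothOfRelativeDimension_isStableUnderBaseChange (n := d)).of_isPullback
      (IsPullback.of_hasPullback f (TT f m).hom) inferInstance
  haveI : IsLocallyNoetherian (PicF.XT f (TT f m)) := isLocallyNoetherian_of_isOpenImmersion (inv e)
  have hreg := Groth.L22.SymSing.isRegularImmersionOfCodim_section (PicF.XTproj f (TT f m)) d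
    (Groth.L02.Hilb.secMor f (TT f m) (pj f m k) (pj_over f m k)) (Groth.L02.Hilb.secMor_proj f (TT f m) _ _)
  have h := le_dim_of_regularImmersion _ d hreg ((ξ ≫ (drop f i).left) s)
  rw [← Scheme.Hom.comp_apply, ← he, Scheme.Hom.comp_apply] at h
  rw [ringKrullDim_eq_of_ringEquiv (asIso (e.stalkMap (ξ s))).commRingCatIsoToRingEquiv] at h
  rw [← hs]
  exact h

end Groth.L22.SymSing
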