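import Groth.Agent.L27.Quot.Basic
import Mathlib.RingTheory.Ideal.GoingDown
import Mathlib.RingTheory.Ideal.KrullsHeightTheorem
import Mathlib.RingTheory.Invariant.Basic
import Mathlib.AlgebraicGeometry.Noetherian

/-!
Quotients by finite groups preserve the dimensions of local rings.
-/

set_option autoImplicit false
set_option linter.style.haveILetI false
set_option backward.isDefEq.respectTransparency false

universe u

open CategoryTheory AlgebraicGeometry

namespace Groth.L22.SymSing

section Algebra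

variable (A B : Type u) (G : Type u) [CommRing A] [CommRing B] [Algebra A B] [Group G] [Finite G]
  [MulSemiringAction G B] [SMulCommClass G A B] [Algebra.IsInvariant A B G] [FaithfulSMul A B]

include G in
theorem hasGoingDown_of_isInvariant : Algebra.HasGoingDown A B := by
  haveI : Algebra.IsIntegral A B := Algebra.IsInvariant.isIntegral A B G
  refine ⟨fun {p} hp Q hQ hlt => ?_⟩
  obtain ⟨P₀, hP₀, hP₀'⟩ : ∃ P₀ : Ideal B, P₀.IsPrime ∧ P₀.under A = p := by
    obtain ⟨P₀, -, h1, h2⟩ := Ideal.exists_ideal_over_prime_of_isIntegral p (⊥ : Ideal B) (by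
      rw [← RingHom.ker_eq_comap_bot, (RingHom.injective_iff_ker_eq_bot _).1 (FaithfulSMul.algebraMap_injective A B)]
      exact bot_le)
    exact ⟨P₀, h1, h2⟩
  haveI := hP₀
  obtain ⟨Q₁, hle, hQ₁, hQ₁'⟩ := Ideal.exists_ideal_over_prime_of_isIntegral (Q.under A) P₀ (by
    show P₀.under A ≤ _
    rw [hP₀']
    exact hlt.le)
  haveI := hQ₁
  obtain ⟨g, hg⟩ := Algebra.IsInvariant.exists_smul_of_under_eq A B G Q₁ Q hQ₁'
  open scoped Pointwise in
  refine ⟨g • P₀, ?_, inferInstance, ⟨?_⟩⟩
  · rw [hg]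
    exact Ideal.pointwise_smul_le_pointwise_smul_iff.2 hle
  · rw [Ideal.under_smul, hP₀']

include G in
theorem height_eq_of_isInvariant [IsNoetherianRing A] [IsNoetherianRing B] (P : Ideal B) [P.IsPrime] :
    P.height = (P.under A).height := by
  haveI := hasGoingDown_of_isInvariant A B G
  haveI : Algebra.IsIntegral A B := Algebra.IsInvariant.isIntegral A B G
  haveI : P.LiesOver (P.under A) := ⟨rfl⟩
  rw [Ideal.height_eq_height_add_of_liesOver_of_hasGoingDown (P.under A) P]
  convert add_zero _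
  set I := (P.under A).map (algebraMap A B)
  have hI : I ≤ P := Ideal.map_le_iff_le_comap.2 le_rfl
  haveI : (P.map (Ideal.Quotient.mk I)).IsPrime := Ideal.map_isPrime_of_surjective Ideal.Quotient.mk_surjective (by rwa [Ideal.mk_ker])
  rw [Ideal.height_eq_zero_iff]
  refine ⟨⟨inferInstance, bot_le⟩, fun R hR hRle => ?_⟩
  haveI := hR.1
  have h1 : R.comap (Ideal.Quotient.mk I) ≤ P := by
    refine (Ideal.comap_mono hRle).trans ?_
    rw [Ideal.comap_map_of_surjective _ Ideal.Quotient.mk_surjective, ← RingHom.ker_eq_comap_bot, Ideal.mk_ker]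
    exact sup_le le_rfl hI
  have h2 : I ≤ R.comap (Ideal.Quotient.mk I) := fun x hx => by
    rw [Ideal.mem_comap, Ideal.Quotient.eq_zero_iff_mem.2 hx]; exact zero_mem _
  have h3 : (R.comap (Ideal.Quotient.mk I)).under A = P.under A :=
    le_antisymm (Ideal.comap_mono h1) (Ideal.map_le_iff_le_comap.1 h2)
  have h4 : R.comap (Ideal.Quotient.mk I) = P := by
    refine h1.antisymm ?_
    by_contra h
    exact absurd h3 (ne_of_lt (Ideal.IsIntegral.comap_lt_comap (R := A) (lt_of_le_not_ge h1 h)))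
  rw [← h4, Ideal.map_comap_of_surjective _ Ideal.Quotient.mk_surjective]

end Algebra

/-- A quotient by a finite group preserves the dimensions of local rings. -/
theorem ringKrullDim_stalk_eq {X Y : Scheme.{u}} [IsLocallyNoetherian X] [IsLocallyNoetherian Y] {G : Type u} [Group G] [Finite G]
    {ρ : G →* Aut X} {p : X ⟶ Y} (hp : SGA1.IsQuot ρ p) (x : X) :
    ringKrullDim (X.presheaf.stalk x) = ringKrullDim (Y.presheaf.stalk (p x)) := by
  haveI := hp.affine
  obtain ⟨U, hU, hxU, -⟩ := exists_isAffineOpen_mem_and_subset (x := p x) (U := ⊤) trivial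
  have hV := hU.preimage p
  letI := (p.app U).hom.toAlgebra
  letI := Groth.L27.Quot.sectionsAction hp.inv U
  haveI := (Groth.L27.Quot.sections_props hp U).1
  haveI := (Groth.L27.Quot.sections_props hp U).2
  haveI : FaithfulSMul Γ(Y, U) Γ(X, p ⁻¹ᵁ U) :=
    (faithfulSMul_iff_algebraMap_injective _ _).mpr (hp.injective _)
  haveI : IsNoetherianRing Γ(X, p ⁻¹ᵁ U) := IsLocallyNoetherian.component_noetherian ⟨_, hV⟩
  haveI : IsNoetherianRing Γ(Y, U) := IsLocallyNoetherian.component_noetherian ⟨_, hU⟩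
  letI := X.presheaf.algebra_section_stalk ⟨x, show x ∈ p ⁻¹ᵁ U from hxU⟩
  haveI := hV.isLocalization_stalk ⟨x, hxU⟩
  letI := Y.presheaf.algebra_section_stalk ⟨p x, hxU⟩
  haveI := hU.isLocalization_stalk ⟨p x, hxU⟩
  rw [IsLocalization.AtPrime.ringKrullDim_eq_height (hV.primeIdealOf ⟨x, hxU⟩).asIdeal,
    IsLocalization.AtPrime.ringKrullDim_eq_height (hU.primeIdealOf ⟨p x, hxU⟩).asIdeal,
    height_eq_of_isInvariant Γ(Y, U) Γ(X, p ⁻¹ᵁ U) G]
  congr 2
  have h := IsAffineOpen.comap_primeIdealOf_appLE (f := p) U hU (p ⁻¹ᵁ U) hV le_rfl hxU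
  rw [← Scheme.Hom.app_eq_appLE] at h
  exact congrArg PrimeSpectrum.asIdeal h

end Groth.L22.SymSing
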