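import Groth.Agent.L22.SymSing.Dim
import Groth.Agent.L22.SymSing.HeightInv
import Groth.Agent.L21.Smooth.Scheme
import Groth.Agent.L25.GeomIrred
import Groth.Agent.L27.Quot.Restrict
import Groth.Agent.L27.Quot.Torsor
import Groth.Agent.L27.EtLocal.StalkProps
import Groth.Agent.S0255
import Mathlib.AlgebraicGeometry.AlgClosed.Basic

/-!
The singular locus of a symmetric power of a smooth variety is the image of the big diagonal.
-/

set_option autoImplicit false
set_option linter.style.haveILetI false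
set_option backward.isDefEq.respectTransparency false
set_option backward.isDefEq.respectTransparency.types false

universe u

open CategoryTheory CategoryTheory.Limits AlgebraicGeometry TopologicalSpace
open Groth.L22.SymHilb (TT pj pj_over drop isPullback_drop)

noncomputable section

namespace Groth.L22.SymSing

section base

variable {k : Type u} [Field k] {X : Scheme.{u}} (f : X ⟶ Spec (CommRingCat.of k)) [Smooth f] [IsSeparated f]

include f in
theorem isIntegral_of_smooth [IrreducibleSpace X] : IsIntegral X := by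
  haveI : ∀ x : X, _root_.IsReduced (X.presheaf.stalk x) := fun x => by
    haveI := Groth.L21.Smooth.isDomain_stalk f x; infer_instance
  haveI : IsReduced X := isReduced_of_isReduced_stalk X
  exact isIntegral_of_irreducibleSpace_of_isReduced X

theorem props_TT [IsAlgClosed k] [IrreducibleSpace X] : ∀ n : ℕ,
    Smooth (TT f n).hom ∧ IsSeparated (TT f n).hom ∧ IrreducibleSpace ↥(TT f n).left
  | 0 => by
    haveI : IsIso (TT f 0).hom := by
      refine ⟨WidePullback.lift (𝟙 _) (fun i => i.elim0) (fun i => i.elim0), ?_, WidePullback.lift_base _ _ _ _⟩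
      apply WidePullback.hom_ext
      · intro i; exact i.elim0
      · simp
    refine ⟨inferInstance, inferInstance, ?_⟩
    haveI : IrreducibleSpace ↥(Spec (CommRingCat.of k)) := inferInstance
    exact (TT f 0).hom.homeomorph.irreducibleSpace_iff.2 inferInstance
  | n + 1 => by
    obtain ⟨h1, h2, h3⟩ := props_TT n
    haveI := h1; haveI := h2; haveI := h3
    haveI : GeometricallyIrreducible f := Groth.L25.GeomIrred.geometricallyIrreducible_of_isAlgClosed f
    have sq := isPullback_drop f (Fin.last n)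
    haveI : Smooth (drop f (Fin.last n)).left := MorphismProperty.of_isPullback (P := @Smooth) sq.flip ‹_›
    haveI : IsSeparated (drop f (Fin.last n)).left := MorphismProperty.of_isPullback (P := @IsSeparated) sq.flip ‹_›
    refine ⟨?_, ?_, ?_⟩
    · rw [← Over.w (drop f (Fin.last n))]; infer_instance
    · rw [← Over.w (drop f (Fin.last n))]; infer_instance
    · exact sq.isoPullback.hom.homeomorph.irreducibleSpace_iff.2 inferInstance

end base

/-- Away from the big diagonal the quotient map is etale. -/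
theorem exists_etale_nhd {X S Y : Scheme.{u}} (f : X ⟶ S) [IsSeparated f] {n : ℕ}
    {q : SymProd.fibPow f n ⟶ Y} (hq : SGA1.IsQuot (SymProd.permActU f n) q) {x : ↥(SymProd.fibPow f n)}
    (hx : x ∉ bad f n) : ∃ U : (SymProd.fibPow f n).Opens, x ∈ U ∧ Etale (U.ι ≫ q) := by
  haveI := hq.affine
  haveI := Groth.L27.Quot.isIntegralHom hq
  let V : Y.Opens := ⟨(q '' bad f n)ᶜ, (q.isClosedMap _ (isClosed_bad f n)).isOpen_compl⟩
  have hgood : ∀ y : ↥(SymProd.fibPow f n), y ∈ q ⁻¹ᵁ V ↔ y ∉ bad f n := by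
    intro y
    refine ⟨fun h hy => h ⟨y, hy, rfl⟩, fun hy ⟨z, hz, hzy⟩ => hy ?_⟩
    obtain ⟨g, hg⟩ := Groth.L27.Quot.exists_eq_of_map_eq hq hzy
    rw [← hg, SymProd.permActU_hom]
    exact permHom_mem_bad f _ hz
  let ρV := Groth.L27.Quot.restrictAction hq.inv V
  have hρV := Groth.L27.Quot.restrictAction_ι hq.inv V
  have hqV := Groth.L27.Quot.isQuot_restrict hq V ρV hρV
  have hfree : Groth.L27.Quot.Free ρV := by
    intro K _ _ ξ g hg
    have h1 : (ξ ≫ (q ⁻¹ᵁ V).ι) ≫ SymProd.permHom f n g.down = ξ ≫ (q ⁻¹ᵁ V).ι := by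
      rw [Category.assoc, ← SymProd.permActU_hom, ← hρV g, reassoc_of% hg]
    obtain ⟨t⟩ : Nonempty ↥(Spec (CommRingCat.of K)) := inferInstance
    exact ULift.ext _ _ (eq_one_of_fixed f (ξ ≫ (q ⁻¹ᵁ V).ι) t ((hgood _).1 (ξ t).2) g.down h1)
  haveI := Groth.L27.Quot.etale hqV hfree
  refine ⟨q ⁻¹ᵁ V, (hgood x).2 hx, ?_⟩
  rw [← morphismRestrict_ι]
  infer_instance

theorem isRegularLocalRing_stalk_of_notMem_bad {X S Y : Scheme.{u}} (f : X ⟶ S) [IsSeparated f] {n : ℕ}
    [IsLocallyNoetherian Y] {q : SymProd.fibPow f n ⟶ Y} (hq : SGA1.IsQuot (SymProd.permActU f n) q)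
    {x : ↥(SymProd.fibPow f n)} (hx : x ∉ bad f n) (hreg : IsRegularLocalRing ((SymProd.fibPow f n).presheaf.stalk x)) :
    IsRegularLocalRing (Y.presheaf.stalk (q x)) := by
  obtain ⟨U, hxU, hU⟩ := exists_etale_nhd f hq hx
  haveI := hU
  haveI : IsRegularLocalRing ((SymProd.fibPow f n).presheaf.stalk (U.ι ⟨x, hxU⟩)) := hreg
  have h := (Groth.L27.EtLocal.isRegularLocalRing_stalk_iff (U.ι ≫ q) ⟨x, hxU⟩).1
    (IsRegularLocalRing.of_ringEquiv (asIso (U.ι.stalkMap ⟨x, hxU⟩)).commRingCatIsoToRingEquiv)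
  exact h

theorem formallyUnramified_stalkMap_of_notMem_bad {X S Y : Scheme.{u}} (f : X ⟶ S) [IsSeparated f] {n : ℕ}
    {q : SymProd.fibPow f n ⟶ Y} (hq : SGA1.IsQuot (SymProd.permActU f n) q)
    {x : ↥(SymProd.fibPow f n)} (hx : x ∉ bad f n) : (q.stalkMap x).hom.FormallyUnramified := by
  obtain ⟨U, hxU, hU⟩ := exists_etale_nhd f hq hx
  haveI := hU
  have h : ((U.ι ≫ q).stalkMap ⟨x, hxU⟩).hom.FormallyUnramified := FormallyUnramified.stalkMap _ _
  rw [Scheme.Hom.stalkMap_comp] at h
  exact (RingHom.FormallyUnramified.respectsIso.cancel_right_isIso (q.stalkMap x) (U.ι.stalkMap ⟨x, hxU⟩)).1 h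

/-- An endomorphism over an etale neighbourhood fixing a rational point is the identity. -/
theorem eq_id_of_etale_at_fixed {P Y S : Scheme.{u}} [IsIntegral P] (b : P ⟶ S) [IsSeparated b] (q : P ⟶ Y)
    (τ : P ⟶ P) (hτq : τ ≫ q = q) (hτb : τ ≫ b = b) (U : P.Opens) [Etale (U.ι ≫ q)] {K : Type u} [Field K]
    (ξ : Spec (CommRingCat.of K) ⟶ P) (t : ↥(Spec (CommRingCat.of K))) (hU : ξ t ∈ U) (hfix : ξ ≫ τ = ξ) :
    τ = 𝟙 P := by
  have hτU : ξ t ∈ τ ⁻¹ᵁ U := by
    show τ (ξ t) ∈ U
    rw [← Scheme.Hom.comp_apply, hfix]; exact hU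
  let W : P.Opens := U ⊓ τ ⁻¹ᵁ U
  let a : W.toScheme ⟶ U.toScheme := P.homOfLE inf_le_left
  let a' : W.toScheme ⟶ U.toScheme := IsOpenImmersion.lift U.ι (W.ι ≫ τ) (by
    rintro _ ⟨w, rfl⟩
    rw [Scheme.Opens.range_ι]
    exact w.2.2)
  have ha : a ≫ U.ι = W.ι := P.homOfLE_ι _
  have ha' : a' ≫ U.ι = W.ι ≫ τ := IsOpenImmersion.lift_fac _ _ _
  have hw : a ≫ U.ι ≫ q = a' ≫ U.ι ≫ q := by
    rw [← Category.assoc, ha, ← Category.assoc, ha', Category.assoc, hτq]
  let L : W.toScheme ⟶ pullback (U.ι ≫ q) (U.ι ≫ q) := pullback.lift a a' hw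
  let Δ := pullback.diagonal (U.ι ≫ q)
  let E : W.toScheme.Opens := L ⁻¹ᵁ Δ.opensRange
  have hE : E.ι ≫ a = E.ι ≫ a' := by
    have hl : IsOpenImmersion.lift Δ (E.ι ≫ L) (by rintro _ ⟨w, rfl⟩; exact w.2) ≫ Δ = E.ι ≫ L :=
      IsOpenImmersion.lift_fac _ _ _
    have e1 := congrArg (· ≫ pullback.fst _ _) hl
    have e2 := congrArg (· ≫ pullback.snd _ _) hl
    simp only [Category.assoc, L, Δ, pullback.lift_fst, pullback.lift_snd, pullback.diagonal_fst,
      pullback.diagonal_snd, Category.comp_id] at e1 e2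
    exact e1.symm.trans e2
  obtain ⟨ξW, hξW⟩ : ∃ ξW : Spec (CommRingCat.of K) ⟶ W.toScheme, ξW ≫ W.ι = ξ :=
    ⟨IsOpenImmersion.lift W.ι ξ (by
      rintro _ ⟨s, rfl⟩
      rw [Subsingleton.elim (α := PrimeSpectrum K) s t, Scheme.Opens.range_ι]
      exact ⟨hU, hτU⟩), IsOpenImmersion.lift_fac _ _ _⟩
  have hne : ξW t ∈ E := by
    refine ⟨(ξW ≫ a) t, ?_⟩
    rw [← Scheme.Hom.comp_apply, ← Scheme.Hom.comp_apply]
    refine congrArg (fun m : Spec (CommRingCat.of K) ⟶ pullback (U.ι ≫ q) (U.ι ≫ q) => m t) ?_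
    apply pullback.hom_ext
    · simp [L, Δ]
    · simp only [Category.assoc, L, Δ, pullback.diagonal_snd, Category.comp_id, pullback.lift_snd]
      rw [← cancel_mono U.ι, Category.assoc, Category.assoc, ha, ha', reassoc_of% hξW, hfix, hξW]
  have hres : (E.ι ≫ W.ι) ≫ τ = E.ι ≫ W.ι := by
    rw [Category.assoc, ← ha', ← reassoc_of% hE, ha]
  haveI : IsDominant (E.ι ≫ W.ι) := by
    refine ⟨?_⟩
    rw [DenseRange]
    exact (E.ι ≫ W.ι).isOpenEmbedding.isOpen_range.dense ⟨_, ⟨⟨ξW t, hne⟩, rfl⟩⟩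
  exact ext_of_isDominant_of_isSeparated b (by rw [hτb, Category.id_comp]) (E.ι ≫ W.ι)
    (by rw [hres, Category.comp_id])

/-- The symmetric power is regular exactly off the image of the big diagonal. -/
theorem regular_iff {k : Type u} [Field k] [IsAlgClosed k] {X : Scheme.{u}} (f : X ⟶ Spec (CommRingCat.of k))
    [Smooth f] [IsSeparated f] [IrreducibleSpace X] (d : ℕ) (hd : 2 ≤ d) (hdim : topologicalKrullDim X = d)
    (n : ℕ) {Y : Scheme.{u}} (q : SymProd.fibPow f n ⟶ Y) (g : Y ⟶ Spec (CommRingCat.of k))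
    (hY : SymProd.IsSymProd f n q g) (z : SymProd.fibPow f n) (hz : IsClosed ({z} : Set (SymProd.fibPow f n))) :
    IsRegularLocalRing (Y.presheaf.stalk (q.base z)) ↔
      Function.Injective (fun i : Fin n => (WidePullback.π (fun _ : Fin n => f) i).base z) := by
  haveI := isIntegral_of_smooth f
  haveI : SmoothOfRelativeDimension d f := Groth.L22.SymSing.smoothOfRelativeDimension_dim f d hdim
  obtain ⟨hs1, hs2, hs3⟩ := props_TT f n
  haveI : Smooth (WidePullback.base fun _ : Fin n => f) := hs1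
  haveI : IsSeparated (WidePullback.base fun _ : Fin n => f) := hs2
  haveI : IrreducibleSpace ↥(SymProd.fibPow f n) := hs3
  haveI := isIntegral_of_smooth (WidePullback.base fun _ : Fin n => f)
  let b : SymProd.fibPow f n ⟶ Spec (CommRingCat.of k) := WidePullback.base fun _ : Fin n => f
  haveI : IsLocallyNoetherian (SymProd.fibPow f n) := LocallyOfFiniteType.isLocallyNoetherian b
  haveI : LocallyOfFiniteType (q ≫ g) := by rw [hY.over]; infer_instance
  haveI := Groth.L27.Quot.locallyOfFiniteType_desc hY.isQuot g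
  haveI : IsLocallyNoetherian Y := LocallyOfFiniteType.isLocallyNoetherian g
  haveI := Groth.L27.Quot.isFinite_of_comp hY.isQuot g
  constructor
  · intro hreg
    by_contra hni
    obtain ⟨i, j, hij, hne⟩ : ∃ i j, (WidePullback.π (fun _ : Fin n => f) i).base z =
        (WidePullback.π (fun _ : Fin n => f) j).base z ∧ i ≠ j := by
      simpa [Function.Injective] using hni
    let ξ : Spec (CommRingCat.of k) ⟶ SymProd.fibPow f n := pointOfClosedPoint b z hz
    have hξ : ξ ≫ b = 𝟙 _ := pointOfClosedPoint_comp b z hz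
    have hξz : ξ (IsLocalRing.closedPoint k) = z :=
      congrArg Subtype.val ((pointEquivClosedPoint b).apply_symm_apply ⟨z, hz⟩)
    have heq : ξ ≫ pj f n i = ξ ≫ pj f n j := by
      refine ext_of_apply_closedPoint_eq f ?_ ?_ ?_
      · rw [Category.assoc, pj_over]; exact hξ
      · rw [Category.assoc, pj_over]; exact hξ
      · rw [Scheme.Hom.comp_apply, Scheme.Hom.comp_apply, hξz]; exact hij
    have hbad : z ∈ bad f n := by
      rw [← hξz]
      exact Set.mem_iUnion.2 ⟨⟨(i, j), hne⟩, (mem_badAt_iff f ξ _).2 heq⟩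
    have h2 : (2 : WithBot ℕ∞) ≤ (d : WithBot ℕ∞) := by exact_mod_cast hd
    obtain ⟨U, hzU, hU⟩ := Groth.Agent.S0255.result q z
      ⟨Groth.L21.Smooth.isDomain_stalk b z, Groth.L21.Smooth.isIntegrallyClosed_stalk b z⟩ hreg
      (q.quasiFiniteAt z) (ringKrullDim_stalk_eq hY.isQuot z)
      (le_trans (le_trans (by exact_mod_cast (show (1 : ℕ) ≤ 2 by norm_num)) h2) (le_dim_of_mem_bad f d hbad))
      (fun x' _ h1 => formallyUnramified_stalkMap_of_notMem_bad f hY.isQuot fun hb => by
        have := (h2.trans (le_dim_of_mem_bad f d hb)).trans h1.le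
        exact absurd this (by decide))
    let τ := Equiv.swap i j
    have hfix : ξ ≫ SymProd.permHom f n τ = ξ := by
      apply WidePullback.hom_ext
      · intro l
        rw [Category.assoc, SymProd.permHom_π, Equiv.symm_swap, Equiv.swap_apply_def]
        split_ifs with h1 h2
        · subst h1; exact heq.symm
        · subst h2; exact heq
        · rfl
      · rw [Category.assoc, SymProd.permHom_base]
    have hτ := eq_id_of_etale_at_fixed b q (SymProd.permHom f n τ) (hY.isQuot.inv ⟨τ⟩)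
      (SymProd.permHom_base f n τ) U ξ _ (hξz.symm ▸ hzU) hfix
    have hπ : pj f n i = pj f n j := by
      have := congrArg (· ≫ pj f n j) hτ
      simp only [Category.id_comp] at this
      rw [show SymProd.permHom f n τ ≫ pj f n j = pj f n (τ.symm j) from SymProd.permHom_π f n τ j] at this
      simpa [τ] using this
    haveI : JacobsonSpace ↥X := LocallyOfFiniteType.jacobsonSpace f
    have hpts : ∀ a a' : X, a ∈ closedPoints X → a' ∈ closedPoints X → a = a' := by
      intro a a' ha ha'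
      let A := (pointEquivClosedPoint f).symm ⟨a, ha⟩
      let A' := (pointEquivClosedPoint f).symm ⟨a', ha'⟩
      let L := WidePullback.lift (objs := fun _ : Fin n => X) (arrows := fun _ => f) (𝟙 (Spec (CommRingCat.of k)))
        (fun l => if l = i then A.1 else A'.1) (fun l => by split_ifs; exacts [A.2, A'.2])
      have hAA : A.1 = A'.1 := by
        have := congrArg (L ≫ ·) hπ
        simp only [L, pj, WidePullback.lift_π, if_pos rfl, if_neg (Ne.symm hne)] at this
        exact this
      exact congrArg Subtype.val ((pointEquivClosedPoint f).symm.injective (Subtype.ext hAA) : (⟨a, ha⟩ : closedPoints X) = ⟨a', ha'⟩)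
    obtain ⟨a, -, ha⟩ := nonempty_inter_closedPoints (Z := (Set.univ : Set X)) Set.univ_nonempty isOpen_univ.isLocallyClosed
    have huniv : (Set.univ : Set X) ⊆ {a} := by
      rw [← closure_closedPoints, ← ha.closure_eq]
      exact closure_mono fun b hb => hpts b a hb ha
    haveI : Subsingleton X := ⟨fun p p' => (huniv (Set.mem_univ p)).trans (huniv (Set.mem_univ p')).symm⟩
    have h0 : topologicalKrullDim X ≤ 0 := by
      rw [topologicalKrullDim]
      haveI : Subsingleton (IrreducibleCloseds X) := ⟨fun c c' => SetLike.ext' (Subsingleton.eq_univ_of_nonempty c.2.nonempty |>.trans (Subsingleton.eq_univ_of_nonempty c'.2.nonempty).symm)⟩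
      exact Order.krullDim_nonpos_of_subsingleton
    rw [hdim] at h0
    exact absurd (h2.trans h0) (by decide)
  · intro hinj
    exact isRegularLocalRing_stalk_of_notMem_bad f hY.isQuot (notMem_bad_of_injective f hinj)
      (Groth.L21.Smooth.regular_stalk b z)

end Groth.L22.SymSing
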